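import Cfsg.Agent.Helper28.Fi22C.Main
import Cfsg.Agent.Helper28.WordProblem
import Cfsg.Agent.Helper28.PermModel2
set_option autoImplicit false
set_option maxRecDepth 1000000

/-!
# The word problem in the presented group `Fi₂₂` through its action on 3510 points
-/

namespace Cfsg.Agent.Helper28.Fi22W
open Cfsg.Agent.Helper28 Cfsg.Agent.Helper28.Fi22b Cfsg.Agent.Helper28.Fi22C Cfsg.Spor

theorem card_KK : Nat.card ↥(KK idx 9 ptabs inv_ok layout.hL) = 64561751654400 := by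
  have h := card_KK_of_injective Fi22b.R idx 9 ptabs inv_ok layout.hL Fi22C.hrels card_inj.2
  rw [card_inj.1] at h
  exact h

/-- the pointwise stabiliser of the base is trivial -/
theorem base_trivial :
    Nat.card ↥(KK idx 9 ptabs inv_ok layout.hL ⊓ fixAllN [18, 5, 4, 3, 2, 1, 0]) = 1 := by
  have h7 := level_ge gen idx 9 ptabs inv_ok layout.hL layout.hig ws7 2 let_ok7 [5, 4, 3, 2, 1, 0] fix_ok7 orb7 orb_ok7 18 (by decide +kernel) 4 _ cnt7 (le_refl _)
  have h6 := level_ge gen idx 9 ptabs inv_ok layout.hL layout.hig ws6 1 let_ok6 [4, 3, 2, 1, 0] fix_ok6 orb6 orb_ok6 5 (by decide +kernel) 3 _ cnt6 h7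
  have h5 := level_ge gen idx 9 ptabs inv_ok layout.hL layout.hig ws5 2 let_ok5 [3, 2, 1, 0] fix_ok5 orb5 orb_ok5 4 (by decide +kernel) 10 _ cnt5 h6
  have h4 := level_ge gen idx 9 ptabs inv_ok layout.hL layout.hig ws4 3 let_ok4 [2, 1, 0] fix_ok4 orb4 orb_ok4 3 (by decide +kernel) 96 _ cnt4 h5
  have h3 := level_ge gen idx 9 ptabs inv_ok layout.hL layout.hig ws3 2 let_ok3 [1, 0] fix_ok3 orb3 orb_ok3 2 (by decide +kernel) 567 _ cnt3 h4
  have h2 := level_ge gen idx 9 ptabs inv_ok layout.hL layout.hig ws2 9 let_ok2 [0] fix_ok2 orb2 orb_ok2 1 (by decide +kernel) 2816 _ cnt2 h3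
  have h1 := level_ge gen idx 9 ptabs inv_ok layout.hL layout.hig ws1 9 let_ok1 [] fix_ok1 orb1 orb_ok1 0 (by decide +kernel) 3510 _ cnt1 h2
  rw [← card_level0N] at h1
  rw [card_KK] at h1
  have h0 := one_le_card_sub (KK idx 9 ptabs inv_ok layout.hL ⊓ fixAllN [18, 5, 4, 3, 2, 1, 0])
  omega

/-- a word of the generators that fixes the base is trivial in the presented group -/
theorem mk_eq_one_of_base (w : List ℕ) (hlet : ∀ l ∈ w, l < ptabs.L)
    (hfix : ∀ b ∈ [18, 5, 4, 3, 2, 1, 0], trace ptabs.perm w b = b) :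
    PresentedGroup.mk Fi22b.R (ev gen 9 w) = 1 :=
  mk_ev_eq_one_of_base Fi22b.R gen idx 9 ptabs inv_ok layout.hL Fi22C.hrels card_inj.2 layout.hig
    [18, 5, 4, 3, 2, 1, 0] base_trivial w hlet hfix

/-- a word that moves a point is not trivial in the presented group -/
theorem mk_ne_one_of_move (w : List ℕ) (hlet : ∀ l ∈ w, l < ptabs.L) (i : ℕ) (hi : i < ptabs.n)
    (hmove : trace ptabs.perm w i ≠ i) : PresentedGroup.mk Fi22b.R (ev gen 9 w) ≠ 1 := by
  intro h
  apply rhoF_ev_ne_one gen idx 9 ptabs inv_ok layout.hL layout.hig w hlet i hi hmove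
  have h1 := congrArg (rhoG Fi22b.R idx 9 ptabs inv_ok layout.hL Fi22C.hrels) h
  rw [rhoG_mk, map_one] at h1
  exact h1

end Cfsg.Agent.Helper28.Fi22W
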